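import Mathlib

/-!
# The determinant of a complement of a free summand of a free module

If `E ≃ F × Q` with `E` free of rank `r + m` and `F` free of rank `r`, then `⋀^m Q ≃ R`
(`nonempty_extPow_equiv`).  The isomorphism is `q₁ ∧ ⋯ ∧ q_m ↦ det [c₁, …, c_r, q₁, …, q_m]`
where the `c_a` are the images of the basis of `F`.  No localisation of exterior powers is used:
bijectivity is checked with Cramer's rule and a dimension count over the residue fields.
-/

set_option autoImplicit false

namespace Groth.Agent.H8.DetSplit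

open Module TensorProduct

section cyclic

variable {R : Type*} [CommRing R] {M : Type*} [AddCommGroup M] [Module R M]

/-- If `v : Fin m → M` spans `M`, then `⋀^m M` is spanned by `v 0 ∧ ⋯ ∧ v (m-1)`. -/
theorem top_le_span_ιMulti (m : ℕ) (v : Fin m → M)
    (hv : Submodule.span R (Set.range v) = ⊤) :
    (⊤ : Submodule R (⋀[R]^m M)) ≤ Submodule.span R {exteriorPower.ιMulti R m v} := by
  classical
  rw [← exteriorPower.ιMulti_span_of_span R m M hv, Submodule.span_le]
  rintro _ ⟨a, ha, rfl⟩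
  have ha' : ∀ i, ∃ j, v j = a i := fun i => ha ⟨i, rfl⟩
  choose σ hσ using ha'
  have hav : a = v ∘ σ := funext fun i => (hσ i).symm
  by_cases hinj : Function.Injective σ
  · have hbij : Function.Bijective σ := Finite.injective_iff_bijective.mp hinj
    have h1 : exteriorPower.ιMulti R m (M := M) (v ∘ (Equiv.ofBijective σ hbij)) =
        Equiv.Perm.sign (Equiv.ofBijective σ hbij) • exteriorPower.ιMulti R m (M := M) v :=
      AlternatingMap.map_perm (exteriorPower.ιMulti R m (M := M)) v (Equiv.ofBijective σ hbij)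
    have h2 : v ∘ (Equiv.ofBijective σ hbij) = a := by rw [hav]; rfl
    rw [h2] at h1
    rw [SetLike.mem_coe, h1, Units.smul_def]
    exact zsmul_mem (Submodule.mem_span_singleton_self _) _
  · have h1 : ¬ Function.Injective a := by
      intro h
      apply hinj
      intro i j hij
      apply h
      rw [hav]
      simp [hij]
    rw [SetLike.mem_coe, AlternatingMap.map_eq_zero_of_not_injective (exteriorPower.ιMulti R m) a h1]
    exact Submodule.zero_mem _

/-- If `d • M ⊆ span (range q)` with `q : Fin m → M`, then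
`d ^ m • ⋀^m M ⊆ R ∙ (q 0 ∧ ⋯ ∧ q (m-1))`. -/
theorem pow_smul_mem_span_ιMulti (m : ℕ) (q : Fin m → M) (d : R)
    (hd : ∀ x : M, d • x ∈ Submodule.span R (Set.range q)) (z : ⋀[R]^m M) :
    d ^ m • z ∈ Submodule.span R {exteriorPower.ιMulti R m q} := by
  classical
  let Q' : Submodule R M := Submodule.span R (Set.range q)
  let q' : Fin m → Q' := fun i => ⟨q i, Submodule.subset_span ⟨i, rfl⟩⟩
  have hq' : Submodule.span R (Set.range q') = ⊤ := by
    have h := Submodule.span_span_coe_preimage (R := R) (s := Set.range q)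
    have h2 : Set.range q' = ((↑) ⁻¹' (Set.range q) : Set Q') := by
      ext ⟨y, hy⟩
      simp only [Set.mem_range, Set.mem_preimage]
      constructor
      · rintro ⟨i, hi⟩
        exact ⟨i, congrArg Subtype.val hi⟩
      · rintro ⟨i, hi⟩
        exact ⟨i, Subtype.ext hi⟩
    rw [h2]
    exact h
  have hmap : exteriorPower.map m Q'.subtype (exteriorPower.ιMulti R m q') =
      exteriorPower.ιMulti R m q := by
    rw [exteriorPower.map_apply_ιMulti]
    rfl
  let S : Submodule R (⋀[R]^m M) :=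
    (Submodule.span R {exteriorPower.ιMulti R m q}).comap (LinearMap.lsmul R _ (d ^ m))
  have hS : (⊤ : Submodule R (⋀[R]^m M)) ≤ S := by
    rw [← exteriorPower.ιMulti_span R m M, Submodule.span_le]
    rintro _ ⟨x, rfl⟩
    show d ^ m • exteriorPower.ιMulti R m x ∈
      Submodule.span R {exteriorPower.ιMulti R m q}
    let y : Fin m → Q' := fun i => ⟨d • x i, hd (x i)⟩
    have h1 : d ^ m • exteriorPower.ιMulti R m x =
        exteriorPower.map m Q'.subtype (exteriorPower.ιMulti R m y) := by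
      rw [exteriorPower.map_apply_ιMulti]
      have h2 := AlternatingMap.map_smul_univ (exteriorPower.ιMulti R m (M := M)) (fun _ => d) x
      rw [Finset.prod_const, Finset.card_univ, Fintype.card_fin] at h2
      rw [← h2]
      rfl
    rw [h1]
    have h3 : exteriorPower.ιMulti R m y ∈ Submodule.span R {exteriorPower.ιMulti R m q'} :=
      top_le_span_ιMulti m q' hq' Submodule.mem_top
    obtain ⟨c, hc⟩ := Submodule.mem_span_singleton.mp h3
    rw [← hc, map_smul, hmap]
    exact Submodule.smul_mem _ _ (Submodule.subset_span rfl)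
  exact hS Submodule.mem_top

end cyclic

section cramer

variable {R : Type*} [CommRing R] {E : Type*} [AddCommGroup E] [Module R E]

/-- Cramer's rule for a family of vectors in a free module. -/
theorem det_smul_eq_sum {ι : Type*} [Fintype ι] [DecidableEq ι] (b : Basis ι R E)
    (W : ι → E) (w : E) :
    b.det W • w = ∑ j, (Matrix.cramer (b.toMatrix W) (b.equivFun w)) j • W j := by
  apply b.equivFun.injective
  funext i
  have h := congrFun (Matrix.mulVec_cramer (b.toMatrix W) (b.equivFun w)) i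
  have h' : ∑ j, b.toMatrix W i j * Matrix.cramer (b.toMatrix W) (b.equivFun w) j =
      (b.toMatrix W).det * b.equivFun w i := by
    simpa [Matrix.mulVec, dotProduct] using h
  rw [map_smul, map_sum, Pi.smul_apply, Finset.sum_apply, smul_eq_mul, Basis.det_apply, ← h']
  refine Finset.sum_congr rfl fun j _ => ?_
  rw [map_smul, Pi.smul_apply, smul_eq_mul, mul_comm]
  rfl

end cramer

section det

variable {R : Type*} [CommRing R] {E F Q : Type*} [AddCommGroup E] [Module R E]
  [AddCommGroup F] [Module R F] [AddCommGroup Q] [Module R Q] {r m : ℕ}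
  (bE : Basis (Fin r ⊕ Fin m) R E) (bF : Basis (Fin r) R F) (e : E ≃ₗ[R] F × Q)

/-- the inclusion of `Q` in `E` -/
noncomputable def incl : Q →ₗ[R] E := e.symm.toLinearMap ∘ₗ LinearMap.inr R F Q

/-- the images of the basis vectors of `F` in `E`. -/
noncomputable def cvec (a : Fin r) : E := e.symm (bF a, 0)

/-- `v ↦ det [c, v]` as an alternating map on `E`. -/
noncomputable def altE : E [⋀^Fin m]→ₗ[R] R where
  toFun v := bE.det (Sum.elim (cvec bF e) v)
  map_update_add' := by
    intro inst v i x y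
    obtain rfl : inst = instDecidableEqFin m := Subsingleton.elim _ _
    simp only [← Sum.update_elim_inr]
    exact bE.det.map_update_add _ _ _ _
  map_update_smul' := by
    intro inst v i c x
    obtain rfl : inst = instDecidableEqFin m := Subsingleton.elim _ _
    simp only [← Sum.update_elim_inr]
    exact bE.det.map_update_smul _ _ _ _
  map_eq_zero_of_eq' v i j h hij :=
    bE.det.map_eq_zero_of_eq (Sum.elim (cvec bF e) v) (i := Sum.inr i) (j := Sum.inr j) h
      (Sum.inr_injective.ne hij)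

/-- `q ↦ det [c, incl q]` as an alternating map on `Q`. -/
noncomputable def altQ : Q [⋀^Fin m]→ₗ[R] R := (altE bE bF e).compLinearMap (incl e)

theorem altQ_apply (q : Fin m → Q) :
    altQ bE bF e q = bE.det (Sum.elim (cvec bF e) (fun i => incl e (q i))) := rfl

/-- the linear form on `⋀^m Q` -/
noncomputable def ψ : ⋀[R]^m Q →ₗ[R] R := exteriorPower.alternatingMapLinearEquiv (altQ bE bF e)

theorem ψ_ιMulti (q : Fin m → Q) :
    ψ bE bF e (exteriorPower.ιMulti R m q) = altQ bE bF e q :=
  exteriorPower.alternatingMapLinearEquiv_apply_ιMulti _ _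

theorem altQ_smul_mem (q : Fin m → Q) (x : Q) :
    altQ bE bF e q • x ∈ Submodule.span R (Set.range q) := by
  classical
  let W : Fin r ⊕ Fin m → E := Sum.elim (cvec bF e) (fun i => incl e (q i))
  have h1 := det_smul_eq_sum bE W (incl e x)
  let p : E →ₗ[R] Q := LinearMap.snd R F Q ∘ₗ e.toLinearMap
  have hpi : ∀ y : Q, p (incl e y) = y := fun y => by simp [p, incl]
  have hpc : ∀ a, p (cvec bF e a) = 0 := fun a => by simp [p, cvec]
  have h3 : bE.det W • x = ∑ i : Fin m,
      Matrix.cramer (bE.toMatrix W) (bE.equivFun (incl e x)) (Sum.inr i) • q i := by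
    have h2 := congrArg p h1
    rw [map_smul, map_sum, hpi, Fintype.sum_sum_type] at h2
    rw [h2]
    simp only [map_smul, W, Sum.elim_inl, Sum.elim_inr, hpc, hpi, smul_zero,
      Finset.sum_const_zero, zero_add]
  show bE.det W • x ∈ _
  rw [h3]
  exact Submodule.sum_mem _ fun i _ =>
    Submodule.smul_mem _ _ (Submodule.subset_span ⟨i, rfl⟩)

theorem exists_altQ_notMem (𝔪 : Ideal R) [h𝔪 : 𝔪.IsMaximal] :
    ∃ q : Fin m → Q, altQ bE bF e q ∉ 𝔪 := by
  classical
  letI : Field (R ⧸ 𝔪) := Ideal.Quotient.field 𝔪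
  haveI : Module.Finite R E := Module.Finite.of_basis bE
  haveI : Module.Finite R F := Module.Finite.of_basis bF
  haveI : Module.Finite R Q :=
    Module.Finite.of_surjective (LinearMap.snd R F Q ∘ₗ e.toLinearMap) (by
      intro y
      exact ⟨e.symm (0, y), by simp⟩)
  let eκ : (R ⧸ 𝔪) ⊗[R] E ≃ₗ[R ⧸ 𝔪] ((R ⧸ 𝔪) ⊗[R] F) × ((R ⧸ 𝔪) ⊗[R] Q) :=
    (LinearEquiv.baseChange R (R ⧸ 𝔪) E (F × Q) e).trans
      (TensorProduct.prodRight R (R ⧸ 𝔪) (R ⧸ 𝔪) F Q)
  have heκ : ∀ x : E, eκ (1 ⊗ₜ x) =
      ((1 : R ⧸ 𝔪) ⊗ₜ[R] (e x).1, (1 : R ⧸ 𝔪) ⊗ₜ[R] (e x).2) := by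
    intro x
    rfl
  have hQ : Module.finrank (R ⧸ 𝔪) ((R ⧸ 𝔪) ⊗[R] Q) = m := by
    have h1 := LinearEquiv.finrank_eq eκ
    rw [Module.finrank_prod, Module.finrank_eq_card_basis (bE.baseChange (R ⧸ 𝔪)),
      Module.finrank_eq_card_basis (bF.baseChange (R ⧸ 𝔪)), Fintype.card_sum, Fintype.card_fin,
      Fintype.card_fin] at h1
    omega
  let v : Basis (Fin m) (R ⧸ 𝔪) ((R ⧸ 𝔪) ⊗[R] Q) := Module.finBasisOfFinrankEq (R ⧸ 𝔪) _ hQ
  have hlift : ∀ i, ∃ y : Q, (1 : R ⧸ 𝔪) ⊗ₜ[R] y = v i := fun i =>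
    TensorProduct.mk_surjective R Q (R ⧸ 𝔪) Ideal.Quotient.mk_surjective (v i)
  choose q hq using hlift
  refine ⟨q, fun hmem => ?_⟩
  let W : Fin r ⊕ Fin m → E := Sum.elim (cvec bF e) (fun i => incl e (q i))
  let Wb : Basis (Fin r ⊕ Fin m) (R ⧸ 𝔪) ((R ⧸ 𝔪) ⊗[R] E) :=
    ((bF.baseChange (R ⧸ 𝔪)).prod v).map eκ.symm
  have hWb : ∀ j, Wb j = (1 : R ⧸ 𝔪) ⊗ₜ[R] W j := by
    intro j
    rw [Basis.map_apply, LinearEquiv.symm_apply_eq, heκ]
    rcases j with a | i
    · simp [W, cvec]
    · simp [W, incl, hq]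
  have hunit : IsUnit ((bE.baseChange (R ⧸ 𝔪)).det Wb) := (bE.baseChange (R ⧸ 𝔪)).isUnit_det Wb
  have hdet : (bE.baseChange (R ⧸ 𝔪)).det Wb = algebraMap R (R ⧸ 𝔪) (bE.det W) := by
    rw [Basis.det_apply, Basis.det_apply, RingHom.map_det]
    congr 1
    ext i j
    rw [Basis.toMatrix_apply, hWb, Basis.baseChange_repr_tmul, RingHom.mapMatrix_apply,
      Matrix.map_apply, Basis.toMatrix_apply, Algebra.algebraMap_eq_smul_one]
  rw [hdet] at hunit
  have h0 : algebraMap R (R ⧸ 𝔪) (bE.det W) = 0 := Ideal.Quotient.eq_zero_iff_mem.mpr hmem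
  rw [h0] at hunit
  exact not_isUnit_zero hunit

include bE bF e in
/-- **Determinant of a complement.** If `E ≃ F × Q` with `E` free of rank `r + m` and `F` free
of rank `r`, then `⋀^m Q` is free of rank one. -/
theorem nonempty_extPow_equiv : Nonempty (⋀[R]^m Q ≃ₗ[R] R) := by
  have hsurj : Function.Surjective (ψ bE bF e) := by
    rw [← LinearMap.range_eq_top]
    by_contra hne
    obtain ⟨𝔪, h𝔪, hle⟩ := Ideal.exists_le_maximal (LinearMap.range (ψ bE bF e)) hne
    obtain ⟨q, hq⟩ := exists_altQ_notMem bE bF e 𝔪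
    exact hq (hle ⟨exteriorPower.ιMulti R m q, ψ_ιMulti bE bF e q⟩)
  have hinj : Function.Injective (ψ bE bF e) := by
    rw [injective_iff_map_eq_zero]
    intro z hz
    by_contra hz0
    have hne : LinearMap.ker (LinearMap.toSpanSingleton R (⋀[R]^m Q) z) ≠ ⊤ := by
      intro h
      apply hz0
      have h1 : (1 : R) ∈ LinearMap.ker (LinearMap.toSpanSingleton R (⋀[R]^m Q) z) :=
        h ▸ Submodule.mem_top
      simpa using h1
    obtain ⟨𝔪, h𝔪, hle⟩ := Ideal.exists_le_maximal _ hne
    obtain ⟨q, hq⟩ := exists_altQ_notMem bE bF e 𝔪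
    set d := altQ bE bF e q with hd
    obtain ⟨c, hc⟩ := Submodule.mem_span_singleton.mp
      (pow_smul_mem_span_ιMulti m q d (altQ_smul_mem bE bF e q) z)
    have h1 : c * d = 0 := by
      have h2 := congrArg (ψ bE bF e) hc
      rw [map_smul, map_smul, ψ_ιMulti, hz, smul_zero, smul_eq_mul, ← hd] at h2
      exact h2
    have h3 : d ^ (m + 1) ∈ LinearMap.ker (LinearMap.toSpanSingleton R (⋀[R]^m Q) z) := by
      rw [LinearMap.mem_ker, LinearMap.toSpanSingleton_apply, pow_succ', mul_smul, ← hc,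
        smul_smul, mul_comm, h1, zero_smul]
    exact hq (h𝔪.isPrime.mem_of_pow_mem _ (hle h3))
  exact ⟨LinearEquiv.ofBijective _ ⟨hinj, hsurj⟩⟩

end det

/-- The top exterior power of a free module of rank `n` is free of rank one. -/
theorem nonempty_extPow_equiv_of_basis {R : Type*} [CommRing R] {E : Type*} [AddCommGroup E]
    [Module R E] {n : ℕ} (b : Basis (Fin n) R E) : Nonempty (⋀[R]^n E ≃ₗ[R] R) :=
  nonempty_extPow_equiv (r := 0) (m := n) (F := PUnit)
    (b.reindex (Equiv.emptySum (Fin 0) (Fin n)).symm) (Basis.empty PUnit)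
    (LinearEquiv.uniqueProd (R := R) (M := E) (M₂ := PUnit)).symm

end Groth.Agent.H8.DetSplit
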