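import Mathlib
import Groth.Prelude
import Groth.Agent.S15821
import Groth.Agent.Lib.Helper5.KosCot.A
import Groth.Agent.Lib.Helper8.DetSplit.Main

/-!
# The canonical module of a smooth complete intersection in affine space (S13315)

For `B = A[T_1..T_n]/(F_1..F_r)` smooth over `A`, `(F_i)` a (weakly) regular sequence:
`⋀^(n-r) Ω_{B/A} ≃ B` (`nonempty_extPow_kaehler_equiv`), and hence
`(⋀^r (I/I²))^∨ ⊗ (B ⊗ ⋀^n Ω_{P/A}) ≃ ⋀^(n-r) Ω_{B/A}` (`main`), both sides being free of rank one.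
-/

set_option autoImplicit false
universe u

namespace Groth.Agent.H8.DetSplit

open MvPolynomial Module TensorProduct

section pres

variable (A : Type u) [CommRing A] (n r : ℕ) (B : Type u) [CommRing B] [Algebra A B]
    (φ : MvPolynomial (Fin n) A →ₐ[A] B) (hφ : Function.Surjective φ)
    (a : Fin r → MvPolynomial (Fin n) A)
    (ha : RingTheory.Sequence.IsWeaklyRegular (MvPolynomial (Fin n) A) (List.ofFn a))
    (hker : RingHom.ker φ.toRingHom = Ideal.span (Set.range a))
    [Algebra.FormallySmooth A B]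

include hφ ha hker in
/-- `⋀^(n-r) Ω_{B/A}` is free of rank one for `B = A[T_1..T_n]/(a_1..a_r)` formally smooth over
`A`, `(a_i)` a weakly regular sequence. -/
theorem nonempty_extPow_kaehler_equiv (hrn : r ≤ n) :
    Nonempty (⋀[B]^(n - r) (Ω[B⁄A]) ≃ₗ[B] B) := by
  classical
  have hfe : ∀ x, MvPolynomial.aeval (fun i => φ (X i)) x = φ x := fun x =>
    (AlgHom.congr_fun (MvPolynomial.aeval_unique φ) x).symm
  have hsurj : Function.Surjective (MvPolynomial.aeval (R := A) (fun i => φ (X i))) := by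
    intro b
    obtain ⟨x, rfl⟩ := hφ b
    exact ⟨x, hfe x⟩
  let G : Algebra.Generators A B (Fin n) := Algebra.Generators.ofSurjective _ hsurj
  let E := G.toExtension
  have hkerE : E.ker = Ideal.span (Set.range a) := by
    rw [← hker]
    ext x
    show algebraMap E.Ring B x = 0 ↔ φ x = 0
    rw [show algebraMap E.Ring B x = φ x from hfe x]
  have hamem : ∀ j, a j ∈ E.ker := fun j => hkerE ▸ Ideal.subset_span ⟨j, rfl⟩
  have hH1' : Subsingleton (LinearMap.ker E.cotangentComplex) :=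
    G.equivH1Cotangent.toEquiv.subsingleton
  let i : E.Cotangent →ₗ[B] E.CotangentSpace := E.cotangentComplex
  let π : E.CotangentSpace →ₗ[B] Ω[B⁄A] := E.toKaehler
  have hi : Function.Injective i := by
    rw [injective_iff_map_eq_zero]
    intro x hx
    exact congrArg Subtype.val
      (Subsingleton.elim (⟨x, hx⟩ : LinearMap.ker E.cotangentComplex) 0)
  have hπ : Function.Surjective π := E.toKaehler_surjective
  have hex : Function.Exact i π := E.exact_cotangentComplex_toKaehler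
  let bF : Basis (Fin n) B E.CotangentSpace := G.cotangentSpaceBasis
  -- the basis of the conormal module
  let cc : Fin r → E.Cotangent := fun j => Algebra.Extension.Cotangent.mk ⟨a j, hamem j⟩
  have hccspan : Submodule.span B (Set.range cc) = ⊤ :=
    Algebra.Extension.Cotangent.span_eq_top_of_span_eq_ker (P := E) a hkerE.symm
  have hKR : LCI.IsKoszulRegularSeq E.Ring (List.ofFn a) :=
    (Groth.Agent.S15821.result _ _ ha).1
  obtain ⟨b0, hb0⟩ := Groth.Agent.Lib.Helper5.KosCot.main (I := E.ker) r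
    (fun j => (⟨a j, hamem j⟩ : E.ker)) hKR hkerE.symm
  have hccli : LinearIndependent B cc := by
    rw [Fintype.linearIndependent_iff]
    intro g hg j
    choose p hp using fun j => E.algebraMap_surjective (g j)
    have h1 : ∑ j, p j • cc j = 0 := by
      rw [← hg]
      refine Finset.sum_congr rfl fun j _ => ?_
      rw [← hp j, algebraMap_smul]
    have h2 := congrArg E.cotangentEquivCotangentKer h1
    rw [map_sum, map_zero] at h2
    have h3 : ∑ j, (Ideal.Quotient.mk E.ker (p j)) • b0 j = 0 := by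
      rw [← h2]
      refine Finset.sum_congr rfl fun j _ => ?_
      rw [map_smul, hb0 j]
      rfl
    have h4 := (Fintype.linearIndependent_iff.mp b0.linearIndependent) _ h3 j
    rw [← hp j]
    exact (RingHom.mem_ker).mp (Ideal.Quotient.eq_zero_iff_mem.mp h4)
  let bC : Basis (Fin r) B E.Cotangent := Basis.mk hccli hccspan.ge
  -- the splitting
  obtain ⟨l, hl⟩ := Module.projective_lifting_property π LinearMap.id hπ
  let e : E.CotangentSpace ≃ₗ[B] E.Cotangent × Ω[B⁄A] :=
    (hex.splitSurjectiveEquiv hi ⟨l, hl⟩).1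
  let σ : Fin n ≃ Fin r ⊕ Fin (n - r) :=
    (finSumFinEquiv.trans (finCongr (by omega : r + (n - r) = n))).symm
  exact nonempty_extPow_equiv (bF.reindex σ) bC e

end pres

/-- The statement of S13315. -/
theorem main (A : Type u) [CommRing A]
    (n r : ℕ) (hrn : r ≤ n) (F : Fin r → MvPolynomial (Fin n) A)
    (hreg : RingTheory.Sequence.IsWeaklyRegular (MvPolynomial (Fin n) A) (List.ofFn F))
    (I : Ideal (MvPolynomial (Fin n) A)) (hI : I = Ideal.span (Set.range F))
    [Algebra.Smooth A (MvPolynomial (Fin n) A ⧸ I)] :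
    Nonempty ((Module.Dual (MvPolynomial (Fin n) A ⧸ I)
          (⋀[MvPolynomial (Fin n) A ⧸ I]^r I.Cotangent)) ⊗[MvPolynomial (Fin n) A ⧸ I]
        ((MvPolynomial (Fin n) A ⧸ I) ⊗[MvPolynomial (Fin n) A]
          (⋀[MvPolynomial (Fin n) A]^n (Ω[MvPolynomial (Fin n) A⁄A])))
      ≃ₗ[MvPolynomial (Fin n) A ⧸ I]
        (⋀[MvPolynomial (Fin n) A ⧸ I]^(n - r) (Ω[(MvPolynomial (Fin n) A ⧸ I)⁄A]))) := by
  classical
  -- the right hand side
  have hker : RingHom.ker (Ideal.Quotient.mkₐ A I).toRingHom = Ideal.span (Set.range F) := by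
    rw [← hI]
    ext x
    show Ideal.Quotient.mk I x = 0 ↔ x ∈ I
    exact Ideal.Quotient.eq_zero_iff_mem
  obtain ⟨eR⟩ := nonempty_extPow_kaehler_equiv A n r (MvPolynomial (Fin n) A ⧸ I)
    (Ideal.Quotient.mkₐ A I) (Ideal.Quotient.mkₐ_surjective A I) F hreg hker hrn
  -- `⋀^n Ω_{P/A}`
  obtain ⟨e1⟩ := nonempty_extPow_equiv_of_basis (KaehlerDifferential.mvPolynomialBasis A (Fin n))
  let e1' : (MvPolynomial (Fin n) A ⧸ I) ⊗[MvPolynomial (Fin n) A]
      (⋀[MvPolynomial (Fin n) A]^n (Ω[MvPolynomial (Fin n) A⁄A])) ≃ₗ[MvPolynomial (Fin n) A ⧸ I]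
      (MvPolynomial (Fin n) A ⧸ I) :=
    (LinearEquiv.baseChange (MvPolynomial (Fin n) A) (MvPolynomial (Fin n) A ⧸ I) _ _ e1).trans
      (TensorProduct.AlgebraTensorModule.rid (MvPolynomial (Fin n) A) (MvPolynomial (Fin n) A ⧸ I)
        (MvPolynomial (Fin n) A ⧸ I))
  -- `⋀^r (I/I²)`
  have hmem : ∀ j, F j ∈ I := fun j => hI ▸ Ideal.subset_span ⟨j, rfl⟩
  have hKR : LCI.IsKoszulRegularSeq (MvPolynomial (Fin n) A) (List.ofFn F) :=
    (Groth.Agent.S15821.result _ _ hreg).1
  obtain ⟨bI, -⟩ := Groth.Agent.Lib.Helper5.KosCot.main (I := I) r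
    (fun j => (⟨F j, hmem j⟩ : I)) hKR hI.symm
  obtain ⟨e2⟩ := nonempty_extPow_equiv_of_basis bI
  let e2' : Module.Dual (MvPolynomial (Fin n) A ⧸ I)
      (⋀[MvPolynomial (Fin n) A ⧸ I]^r I.Cotangent) ≃ₗ[MvPolynomial (Fin n) A ⧸ I]
      (MvPolynomial (Fin n) A ⧸ I) :=
    (e2.symm.dualMap).trans (LinearMap.ringLmapEquivSelf (MvPolynomial (Fin n) A ⧸ I)
      (MvPolynomial (Fin n) A ⧸ I) (MvPolynomial (Fin n) A ⧸ I))
  exact ⟨((TensorProduct.congr e2' e1').trans (TensorProduct.lid _ _)).trans eR.symm⟩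

end Groth.Agent.H8.DetSplit
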